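import Groth.Prelude.Def_Found
import Groth.Agent.CAlg9.Tensor
import Groth.Agent.CAlg9.Completion
import Groth.Agent.ML3.BaseChange

/-! The module of decaying functions over a complete Noetherian ring is Mittag-Leffler, hence so is
the completion of a free module. -/

universe u

namespace Groth.Agent.FlatCrit65

open W4c5adicflatcompl TensorProduct

variable {R : Type u} [CommRing R] [IsNoetherianRing R] {I : Ideal R} [IsAdicComplete I R] {α : Type u}

/-- The comparison map is injective for every module, not only the finite ones. -/
theorem tensorToPi_injective' (M : Type u) [AddCommGroup M] [Module R M] :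
    Function.Injective (CAlg9.tensorToPi I α M) := by
  rw [injective_iff_map_eq_zero]
  intro t ht
  obtain ⟨S, rfl⟩ := TensorProduct.exists_finset t
  let M' : Submodule R M := Submodule.span R ((fun p : M × decaying I α R => p.1) '' (S : Set _))
  have : Module.Finite R M' := Module.Finite.iff_fg.mpr (Submodule.fg_span (S.finite_toSet.image _))
  let t' : M' ⊗[R] decaying I α R := ∑ p ∈ S.attach,
    (⟨p.1.1, Submodule.subset_span ⟨p.1, p.2, rfl⟩⟩ : M') ⊗ₜ p.1.2
  have h1 : M'.subtype.rTensor _ t' = ∑ p ∈ S, p.1 ⊗ₜ p.2 := by
    rw [map_sum, ← Finset.sum_attach S]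
    rfl
  have key : ∀ x : M' ⊗[R] decaying I α R, ∀ z,
      CAlg9.tensorToPi I α M (M'.subtype.rTensor _ x) z = (CAlg9.tensorToPi I α M' x z : M) := by
    intro x z
    induction x with
    | zero => simp
    | tmul m g => simp [CAlg9.tensorToPi_tmul]
    | add x y hx hy => simp [hx, hy]
  have h2 : CAlg9.tensorToPi I α M' t' = 0 := by
    funext z
    apply Subtype.ext
    rw [← key, h1, ht]
    rfl
  have h3 : t' = 0 := CAlg9.tensorToPi_injective (by rw [h2, map_zero])
  rw [← h1, h3, map_zero]

/-- Decaying functions over a complete Noetherian ring form a Mittag-Leffler module. -/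
theorem ml_decaying : CAlg.IsMittagLeffler R (decaying I α R) := by
  intro ι Q _ _
  rw [injective_iff_map_eq_zero]
  intro t ht
  apply (TensorProduct.comm R _ _).injective
  rw [map_zero]
  apply tensorToPi_injective' (∀ i, Q i)
  rw [map_zero]
  funext z
  funext i
  have key : ∀ t : decaying I α R ⊗[R] (∀ i, Q i),
      CAlg9.tensorToPi I α _ (TensorProduct.comm R _ _ t) z i =
        CAlg9.tensorToPi I α (Q i) (TensorProduct.comm R _ _ (TensorProduct.piRightHom R R _ Q t i)) z := by
    intro t
    induction t with
    | zero => simp
    | tmul g q => simp [CAlg9.tensorToPi_tmul]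
    | add x y hx hy => simp [hx, hy]
  rw [key, ht]
  simp

variable (I α) in
/-- The completion of a free module over a complete ring. -/
theorem ml_adicCompletion_finsupp : CAlg.IsMittagLeffler R (AdicCompletion I (α →₀ R)) := by
  have : IsAdicComplete I (AdicCompletion I R) := AdicCompletion.isAdicComplete (IsNoetherian.noetherian I)
  exact ML3.ml_of_linearEquiv
    ((CAlg9.finsuppEquivDecaying I α R).trans (CAlg9.decayingCompletionEquiv I α)) ml_decaying

end Groth.Agent.FlatCrit65
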