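import Groth.Agent.FlatCrit65.Complete.AdicFreeML
import Groth.Agent.S0550
import Groth.Agent.CAlg4.SplitCompletion

/-! The completion of a flat module which is projective modulo the ideal is flat and Mittag-Leffler. -/

universe u

namespace Groth.Agent.FlatCrit65

theorem flat_ml_adicCompletion {R : Type u} [CommRing R] [IsNoetherianRing R] (I : Ideal R) [IsAdicComplete I R]
    (M : Type u) [AddCommGroup M] [Module R M] [Module.Flat R M]
    [Module.Projective (R ⧸ I) (M ⧸ (I • ⊤ : Submodule R M))] :
    Module.Flat R (AdicCompletion I M) ∧ CAlg.IsMittagLeffler R (AdicCompletion I M) := by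
  let g : (M →₀ R) →ₗ[R] M := Finsupp.linearCombination R id
  have hg : Function.Surjective g := fun m => ⟨Finsupp.single m 1, by simp [g]⟩
  let K : Submodule R (M →₀ R) := LinearMap.ker g
  let f : K →ₗ[R] (M →₀ R) := K.subtype
  have hf : Function.Injective f := K.injective_subtype
  have hex : Function.Exact f g := LinearMap.exact_subtype_ker_map g
  obtain ⟨-, -, s, hs⟩ := CAlg4.SplitCompletion.main (K := K) (P := M →₀ R) (M := M) I f g hf hg hex
  let s' : AdicCompletion I M →ₗ[R] AdicCompletion I (M →₀ R) := s.restrictScalars R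
  let g' : AdicCompletion I (M →₀ R) →ₗ[R] AdicCompletion I M := (AdicCompletion.map I g).restrictScalars R
  have hgs : g' ∘ₗ s' = LinearMap.id := LinearMap.ext fun x => LinearMap.congr_fun hs x
  have := S0550.result R I M
  refine ⟨Module.Flat.of_retract s' g' hgs,
    ML3.ml_of_univInj s' (fun Q _ _ a b hab => ?_) (ml_adicCompletion_finsupp I M)⟩
  have := congrArg (g'.rTensor Q) hab
  rwa [← LinearMap.rTensor_comp_apply, ← LinearMap.rTensor_comp_apply, hgs, LinearMap.rTensor_id_apply,
    LinearMap.rTensor_id_apply] at this

end Groth.Agent.FlatCrit65
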