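import Groth.Agent.FlatCrit65.Complete.FlatCompletionML
import Groth.Agent.FlatCrit65.Closed.CompletionInj
import Groth.Agent.FlatMor67.CountProj
import Mathlib.RingTheory.FiniteType

/-! Projectivity of flat finite modules over finite type algebras over complete rings. -/

universe u

namespace Groth.Agent.FlatCrit65

theorem countablyGenerated_of_finiteType (R S : Type u) [CommRing R] [CommRing S] [Algebra R S] [Algebra.FiniteType R S]
    (N : Type u) [AddCommGroup N] [Module S N] [Module R N] [IsScalarTower R S N] [Module.Finite S N] :
    CAlg.IsCountablyGenerated R N := by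
  obtain ⟨n, φ, hφ⟩ := Algebra.FiniteType.iff_quotient_mvPolynomial''.mp ‹Algebra.FiniteType R S›
  obtain ⟨m, w, hw⟩ := Module.Finite.exists_fin (R := S) (M := N)
  refine ⟨Set.range fun p : (Fin n →₀ ℕ) × Fin m => φ (MvPolynomial.monomial p.1 1) • w p.2,
    Set.countable_range _, ?_⟩
  rw [eq_top_iff]
  intro x hxtop
  clear hxtop
  have hx : x ∈ Submodule.span S (Set.range w) := hw ▸ trivial
  induction hx using Submodule.span_induction with
  | mem x hx =>
    obtain ⟨i, rfl⟩ := hx
    exact Submodule.subset_span ⟨(0, i), by simp⟩
  | zero => exact Submodule.zero_mem _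
  | add x y _ _ hx hy => exact Submodule.add_mem _ hx hy
  | smul s x hxS hx =>
    clear hxS
    obtain ⟨q, rfl⟩ := hφ s
    induction hx using Submodule.span_induction with
    | mem x hx =>
      obtain ⟨⟨a, i⟩, rfl⟩ := hx
      induction q using MvPolynomial.induction_on' with
      | monomial b c =>
        have e : φ (MvPolynomial.monomial b c) • (φ (MvPolynomial.monomial a 1) • w i) =
            c • (φ (MvPolynomial.monomial (b + a) 1) • w i) := by
          rw [smul_smul, ← map_mul, MvPolynomial.monomial_mul, mul_one, ← smul_assoc, ← map_smul,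
            MvPolynomial.smul_monomial, smul_eq_mul, mul_one]
        rw [e]
        exact Submodule.smul_mem _ c (Submodule.subset_span ⟨(b + a, i), rfl⟩)
      | add p q hp hq =>
        rw [map_add, add_smul]
        exact Submodule.add_mem _ hp hq
    | zero => rw [smul_zero]; exact Submodule.zero_mem _
    | add x y _ _ hx hy => rw [smul_add]; exact Submodule.add_mem _ hx hy
    | smul r x _ hx => rw [smul_comm]; exact Submodule.smul_mem _ r hx

theorem projective_of_complete {R S : Type u} [CommRing R] [CommRing S] [Algebra R S] [IsNoetherianRing R]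
    (I : Ideal R) [IsAdicComplete I R] [Algebra.FiniteType R S]
    (N : Type u) [AddCommGroup N] [Module S N] [Module R N] [IsScalarTower R S N] [Module.Finite S N] [Module.Flat R N]
    [Module.Projective (R ⧸ I) (N ⧸ (I • ⊤ : Submodule R N))]
    (h : ∀ (p : Ideal R) (q : Ideal S) [p.IsPrime] [q.IsPrime] [q.LiesOver p],
      FlatCA.fiberIdeal p q ∈ associatedPrimes (p.Fiber S) (FlatCA.fiberMod p S N) → I.map (algebraMap R S) ⊔ q ≠ ⊤) :
    Module.Projective R N := by
  have : IsNoetherianRing S := Algebra.FiniteType.isNoetherianRing R S
  refine FlatMor67.projective_of_flat_ml_countable N ?_ (countablyGenerated_of_finiteType R S N)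
  refine ML3.ml_of_univInj (AdicCompletion.of I N) (fun Q _ _ a b hab => ?_) (flat_ml_adicCompletion I N).2
  apply (TensorProduct.comm R N Q).injective
  apply univInj_completion_of_flat (S := S) I N h Q
  have key : ∀ y : TensorProduct R N Q, (AdicCompletion.of I N).lTensor Q (TensorProduct.comm R N Q y) =
      TensorProduct.comm R _ Q ((AdicCompletion.of I N).rTensor Q y) := fun y => by
    induction y with
    | zero => simp
    | tmul m q => simp
    | add x y hx hy => simp [hx, hy]
  rw [key, key, hab]

end Groth.Agent.FlatCrit65
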